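import Cfsg.Agent.H455.Ore.T1
import Cfsg.Agent.H175.Eight.J1

/-!
# Ore's conjecture for `J₁` (helper455)
-/

set_option autoImplicit false

namespace Cfsg.Agent.H455.Ore

open Cfsg Subgroup
open Cfsg.Agent.Characters.Core
open Cfsg.Agent.M23Order.Base
open Cfsg.Agent.H413.JOneSpec
open Cfsg.Agent.SporRec.J1.Defs

universe u

variable {K : Type u} [Group K]

/-- `|C(g)| ≤ 120` -/
theorem j1_cent [Finite K] [IsSimpleGroup K] (h : Local K) (hc : Nat.card K = 175560) {g : K} (hg : g ≠ 1) :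
    Nat.card (centralizer ({g} : Set K)) ≤ 120 := by
  obtain ⟨p, hp, hpd⟩ := Nat.exists_prime_and_dvd (n := orderOf g) (fun h1 => hg (orderOf_eq_one_iff.1 h1))
  have ho := orderOf_pow_div hpd
  set y := g ^ (orderOf g / p) with hy
  have hle : Nat.card (centralizer ({g} : Set K)) ≤ Nat.card (centralizer ({y} : Set K)) := by
    refine Nat.card_le_card_of_injective (Subgroup.inclusion ?_) (Subgroup.inclusion_injective _)
    intro c hcm
    rw [mem_centralizer_singleton_iff] at hcm ⊢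
    exact (show Commute c g from hcm).pow_right _
  refine hle.trans ?_
  have hdvd : p ∣ 175560 := by rw [← hc, ← ho]; exact orderOf_dvd_natCard y
  have hcase : p = 2 ∨ p = 3 ∨ p = 5 ∨ p = 7 ∨ p = 11 ∨ p = 19 := by
    have h1 : (175560 : ℕ) = 2 ^ 3 * 3 * 5 * 7 * 11 * 19 := by norm_num
    rw [h1] at hdvd
    have q : ∀ q : ℕ, q.Prime → p ∣ q → p = q := fun q hq h => (Nat.prime_dvd_prime_iff_eq hp hq).1 h
    rcases (Nat.Prime.dvd_mul hp).1 hdvd with h2 | h2
    · rcases (Nat.Prime.dvd_mul hp).1 h2 with h2 | h2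
      · rcases (Nat.Prime.dvd_mul hp).1 h2 with h2 | h2
        · rcases (Nat.Prime.dvd_mul hp).1 h2 with h2 | h2
          · rcases (Nat.Prime.dvd_mul hp).1 h2 with h2 | h2
            · exact Or.inl (q 2 (by norm_num) (hp.dvd_of_dvd_pow h2))
            · exact Or.inr (Or.inl (q 3 (by norm_num) h2))
          · exact Or.inr (Or.inr (Or.inl (q 5 (by norm_num) h2)))
        · exact Or.inr (Or.inr (Or.inr (Or.inl (q 7 (by norm_num) h2))))
      · exact Or.inr (Or.inr (Or.inr (Or.inr (Or.inl (q 11 (by norm_num) h2)))))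
    · exact Or.inr (Or.inr (Or.inr (Or.inr (Or.inr (q 19 (by norm_num) h2)))))
  rcases hcase with rfl | rfl | rfl | rfl | rfl | rfl
  · exact (card_cent_two h ho).le
  · rw [h.cent3 y ho]; norm_num
  · rw [h.cent5 y ho]; norm_num
  · rw [H417.JOneDeg.card_cent h hc (by rw [ho]; unfold Big; tauto), ho]; norm_num
  · rw [H417.JOneDeg.card_cent h hc (by rw [ho]; unfold Big; tauto), ho]; norm_num
  · rw [H417.JOneDeg.card_cent h hc (by rw [ho]; unfold Big; tauto), ho]; norm_num

/-- a version with the local structure -/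
theorem j1_local [Finite K] [IsSimpleGroup K] (h : Local K) (hc : Nat.card K = 175560) (g : K) :
    ∃ a b : K, g = a * b * a⁻¹ * b⁻¹ := by
  by_cases hg : g = 1
  · exact ⟨1, 1, by rw [hg]; group⟩
  have f11 : Fact (Nat.Prime 11) := ⟨by norm_num⟩
  obtain ⟨P, hP, ⟨D⟩⟩ := H417.BlockCount.exists_SC (G := K) 11 (by norm_num) (by rw [hc]; norm_num)
    (by rw [hc]; norm_num) (fun y hy => by rw [H417.JOneDeg.card_cent h hc (by rw [hy]; unfold Big; tauto), hy])
    (e := 10) (t := 1) (by rw [hc]) (by norm_num)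
  obtain ⟨x, hx⟩ := exists_prime_orderOf_dvd_card' (G := (P : Subgroup K)) 11 (by rw [hP])
  have hx' : orderOf (x : K) = 11 := by rw [Subgroup.orderOf_coe]; exact hx
  have hperf : commutator K = ⊤ := MTwelve.SmallDegree.commutator_eq_top_of_card (by rw [hc]; norm_num)
  obtain ⟨h1, -⟩ := H175.Eight.key_j1 h hc
  refine exists_comm D (by norm_num) (by norm_num) (by norm_num) x.2
    (fun h1 => by rw [h1, orderOf_one] at hx'; norm_num at hx')
    (by rw [H417.JOneDeg.card_cent h hc (by rw [hx']; unfold Big; tauto), hx']) (d := 56) ?_ (by norm_num) ?_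
  · intro χ hχ _
    have h2 := h1 χ
    simp only [List.mem_cons, List.not_mem_nil, or_false] at h2
    have h3 : dg χ ≠ 1 := fun h3 => hχ (coe_eq_one_of_dg hperf h3)
    omega
  · have h2 := j1_cent h hc hg
    calc Nat.card (centralizer ({g} : Set K)) * (10 - 1 + (11 - 10) ^ 2) ≤ 120 * (10 - 1 + (11 - 10) ^ 2) :=
        Nat.mul_le_mul_right _ h2
      _ < 56 ^ 2 := by norm_num

/-- **Ore's conjecture for `J₁`.** -/
theorem row_j1 (h : Spor.IsoJ1 K) (g : K) : ∃ a b : K, g = a * b * a⁻¹ * b⁻¹ := by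
  obtain ⟨e⟩ := h
  have : IsSimpleGroup Spor.J1 := SporadicB.J1.Main.isJ1.1
  have hfin : Finite Spor.J1 := Nat.finite_of_card_ne_zero (by rw [H413.JOneLocal.card_J1]; norm_num)
  obtain ⟨a, b, hab⟩ := j1_local H413.JOneLocal.isLocal H413.JOneLocal.card_J1 (e g)
  refine ⟨e.symm a, e.symm b, e.injective ?_⟩
  rw [hab]
  simp

end Cfsg.Agent.H455.Ore
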