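import Cfsg.Agent.H455.Ore.T1
import Cfsg.Agent.H417.JThreeDeg
import Cfsg.Agent.H305.OddJ3
import Cfsg.Agent.H724.IMJThree

/-!
# Ore's conjecture for `J₃` (helper455)

The counting lemma with `p = 17` (no degree prime to 17 between 1 and 152: the degree 18 is excluded by linear
programming certificates), the coded involution centralizer `2^(1+4):A5` and `|C(x)| ∈ {1080, 3^k}` for `x` of order 3.
-/

set_option autoImplicit false
set_option maxRecDepth 100000

namespace Cfsg.Agent.H455.Ore.J3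

open Cfsg Subgroup
open Cfsg.Agent.Characters.Core
open Cfsg.Agent.M23Order.Base
open Cfsg.Agent.H417.JThreeLP

universe u

section lp

variable {ι : Type*} [Fintype ι]

/-- the row `r` -/
def isRow (r : List ℤ) (v : Fin 8 → ℤ) : Bool := [v 0, v 1, v 2, v 3, v 4, v 5, v 6, v 7] == r

/-- the row `[18, -30, 6, 0, 0, 0, 0, 0]` -/
theorem no18_0 {V : ι → Fin 8 → ℤ} (h : Hyp V) (h1 : 1 ≤ num V (isRow [18, -30, 6, 0, 0, 0, 0, 0])) : False := by
  refine leaf h vecs h.mem [-7381125, 1760700797, 7267474255, 24679157760, 61780894190, 33239445120, 13136594984, 0, 0, -4328781295671, 8621656030836, -8062232107806, 7878427968780, 501306312744, 0, 0, 23793640056900, -28324243801440, 20417057811900, 49895491207248, 0, 3809131868160, 139692292296840, 49437805731840, 17747862260832, 0, 0, 181355797927800, 268135957814688, 0, -2399929896960, 87633011291040, 0, 85279481486208, 0, -30800439889920, -1608200578990080, 43656579072000, 294401870326080, -16446799872000, 53004381143040]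
    [(isRow [18, -30, 6, 0, 0, 0, 0, 0], -806222129725440, -806222129725440 * 1)] ?_ (by decide +kernel) (by decide +kernel)
  intro e he
  rw [List.mem_singleton] at he
  subst he
  exact le_of_ge (by norm_num) h1

/-- the row `[18, 2, -2, -1, 0, 1, -1, -1]` -/
theorem no18_1 {V : ι → Fin 8 → ℤ} (h : Hyp V) (h1 : 1 ≤ num V (isRow [18, 2, -2, -1, 0, 1, -1, -1])) : False := by
  refine leaf h vecs h.mem [0, 5876, 52465, 46170, 35675, 0, -838, 138510, 0, 13851, -10587186, -10054287, 23086944, -2196882, 37720890, 0, -16630920, 50325300, 149908320, 138049272, 143865720, 16744320, 70282080, 68947200, 265560768, 28071360, 0, 409147200, 278388576, 589498560, 56142720, -37444032, -28071360, 181694016, 0, -234912960, -2818955520, 0, -342455040, 0, 0]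
    [(isRow [18, 2, -2, -1, 0, 1, -1, -1], -531878400, -531878400 * 1)] ?_ (by decide +kernel) (by decide +kernel)
  intro e he
  rw [List.mem_singleton] at he
  subst he
  exact le_of_ge (by norm_num) h1

/-- the row `[18, 2, -2, -1, 0, 1, -1, 1]` -/
theorem no18_2 {V : ι → Fin 8 → ℤ} (h : Hyp V) (h1 : 1 ≤ num V (isRow [18, 2, -2, -1, 0, 1, -1, 1])) : False := by
  refine leaf h vecs h.mem [0, 5876, 52465, 46170, 35675, 0, -838, -138510, 0, 13851, -10587186, -10054287, 23086944, -2196882, -37720890, 0, -16630920, 50325300, 149908320, 138049272, -143865720, 16744320, 70282080, 68947200, 265560768, -28071360, 0, 409147200, 278388576, -589498560, 56142720, -37444032, 28071360, 181694016, 0, -234912960, -2818955520, 0, -342455040, 0, 0]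
    [(isRow [18, 2, -2, -1, 0, 1, -1, 1], -531878400, -531878400 * 1)] ?_ (by decide +kernel) (by decide +kernel)
  intro e he
  rw [List.mem_singleton] at he
  subst he
  exact le_of_ge (by norm_num) h1

/-- the row `[18, 2, -2, -1, 0, 1, 4, 0]` -/
theorem no18_3 {V : ι → Fin 8 → ℤ} (h : Hyp V) (h1 : 1 ≤ num V (isRow [18, 2, -2, -1, 0, 1, 4, 0])) : False := by
  refine leaf h vecs h.mem [164025, 52833263, 396812725, 426980160, 1823770490, 426980160, -52198024, 0, 0, -3279348909, 238888035324, -234914803722, -88868974716, 33503787000, 0, 0, 1160742232620, -1371807718560, -258893157420, 909801547632, 0, -103145011200, 2851743591000, 840698818560, -445038600672, 0, 0, 1233602579880, 6748588387296, 0, 728444897280, 1954117091808, 0, 1159448100480, 0, -1878310840320, -27431309352960, -970146201600, 2553943919040, 365484441600, -776654438400]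
    [(isRow [18, 2, -2, -1, 0, 1, 4, 0], -22498135381440, -22498135381440 * 1)] ?_ (by decide +kernel) (by decide +kernel)
  intro e he
  rw [List.mem_singleton] at he
  subst he
  exact le_of_ge (by norm_num) h1

/-- the row `[18, 2, -2, 2, 0, -2, -1, -1]` -/
theorem no18_4 {V : ι → Fin 8 → ℤ} (h : Hyp V) (h1 : 1 ≤ num V (isRow [18, 2, -2, 2, 0, -2, -1, -1])) : False := by
  refine leaf h vecs h.mem [0, 5140, 48785, 0, 120655, 46170, -41120, 0, 0, 13851, -9828864, -25388883, 25677486, -9300096, 12558240, 0, -14670720, -22684860, 164692440, 150934752, 62791200, 7387200, 19906560, 54172800, 199780992, -50232960, 0, 559988640, 371801664, 226048320, 80274240, 68522112, 50232960, 188163648, 0, -385611840, -3155811840, 0, 30170880, 0, 0]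
    [(isRow [18, 2, -2, 2, 0, -2, -1, -1], -868734720, -868734720 * 1)] ?_ (by decide +kernel) (by decide +kernel)
  intro e he
  rw [List.mem_singleton] at he
  subst he
  exact le_of_ge (by norm_num) h1

/-- the row `[18, 2, -2, 2, 0, -2, -1, 1]` -/
theorem no18_5 {V : ι → Fin 8 → ℤ} (h : Hyp V) (h1 : 1 ≤ num V (isRow [18, 2, -2, 2, 0, -2, -1, 1])) : False := by
  refine leaf h vecs h.mem [0, 5140, 48785, 0, 120655, 46170, -41120, 0, 0, 13851, -9828864, -25388883, 25677486, -9300096, -12558240, 0, -14670720, -22684860, 164692440, 150934752, -62791200, 7387200, 19906560, 54172800, 199780992, 50232960, 0, 559988640, 371801664, -226048320, 80274240, 68522112, -50232960, 188163648, 0, -385611840, -3155811840, 0, 30170880, 0, 0]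
    [(isRow [18, 2, -2, 2, 0, -2, -1, 1], -868734720, -868734720 * 1)] ?_ (by decide +kernel) (by decide +kernel)
  intro e he
  rw [List.mem_singleton] at he
  subst he
  exact le_of_ge (by norm_num) h1

/-- there is no character of degree 18 -/
theorem ne_18 {V : ι → Fin 8 → ℤ} (h : Hyp V) (χ : ι) : V χ 0 ≠ 18 := by
  intro h0
  obtain ⟨l, hl, hv⟩ := h.mem χ
  have key : ∀ r : List ℤ, isRow r (V χ) = true → 1 ≤ num V (isRow r) := by
    intro r hr
    have h1 : ind (isRow r (V χ)) = 1 := by rw [hr]; rfl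
    rw [num, ← h1]
    exact Finset.single_le_sum (f := fun χ => ind (isRow r (V χ))) (fun i _ => by unfold ind; split_ifs <;> norm_num)
      (Finset.mem_univ χ)
  have hall : ∀ l ∈ vecs, fn l 0 = 18 → isRow [18, -30, 6, 0, 0, 0, 0, 0] (fn l) = true ∨
      isRow [18, 2, -2, -1, 0, 1, -1, -1] (fn l) = true ∨ isRow [18, 2, -2, -1, 0, 1, -1, 1] (fn l) = true ∨
      isRow [18, 2, -2, -1, 0, 1, 4, 0] (fn l) = true ∨ isRow [18, 2, -2, 2, 0, -2, -1, -1] (fn l) = true ∨
      isRow [18, 2, -2, 2, 0, -2, -1, 1] (fn l) = true := by decide +kernel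
  rw [hv] at h0
  rcases hall l hl h0 with h1 | h1 | h1 | h1 | h1 | h1 <;> rw [← hv] at h1
  · exact no18_0 h (key _ h1)
  · exact no18_1 h (key _ h1)
  · exact no18_2 h (key _ h1)
  · exact no18_3 h (key _ h1)
  · exact no18_4 h (key _ h1)
  · exact no18_5 h (key _ h1)

/-- the least degree prime to 17 -/
theorem le_deg {V : ι → Fin 8 → ℤ} (h : Hyp V) (χ : ι) (h1 : V χ 0 ≠ 1) (h17 : V χ 0 % 17 ≠ 0) : 152 ≤ V χ 0 := by
  have h18 := ne_18 h χ
  obtain ⟨l, hl, hv⟩ := h.mem χ
  have hall : ∀ l ∈ vecs, fn l 0 = 1 ∨ fn l 0 = 18 ∨ fn l 0 % 17 = 0 ∨ 152 ≤ fn l 0 := by decide +kernel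
  rw [hv] at h1 h17 h18 ⊢
  rcases hall l hl with h2 | h2 | h2 | h2
  · exact absurd h2 h1
  · exact absurd h2 h18
  · exact absurd h2 h17
  · exact h2

/-- the least degree prime to 19 -/
theorem le_deg19 {V : ι → Fin 8 → ℤ} (h : Hyp V) (χ : ι) (h1 : V χ 0 ≠ 1) (h19 : V χ 0 % 19 ≠ 0) : 85 ≤ V χ 0 := by
  have h18 := ne_18 h χ
  obtain ⟨l, hl, hv⟩ := h.mem χ
  have hall : ∀ l ∈ vecs, fn l 0 = 1 ∨ fn l 0 = 18 ∨ fn l 0 % 19 = 0 ∨ 85 ≤ fn l 0 := by decide +kernel
  rw [hv] at h1 h19 h18 ⊢
  rcases hall l hl with h2 | h2 | h2 | h2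
  · exact absurd h2 h1
  · exact absurd h2 h18
  · exact absurd h2 h19
  · exact h2

end lp

variable {K : Type u} [Group K]

/-- **The counting lemma for `J₃`** : elements with `|C(g)| ≤ 262` -/
theorem mul17 (h : Spor.IsoJ3 K) {g : K} (hg : Nat.card (centralizer ({g} : Set K)) ≤ 262) :
    ∃ x : K, orderOf x = 17 ∧ ∃ a b : K, g = a * x * a⁻¹ * (b * x⁻¹ * b⁻¹) := by
  classical
  obtain ⟨hs, hc, -⟩ := H898.J3Cent.base h
  have hfin : Finite K := Nat.finite_of_card_ne_zero (by rw [hc]; norm_num)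
  have := finite_irr (G := K)
  let _ := Fintype.ofFinite (IrrCharacter K)
  obtain ⟨V, hV, hH⟩ := H417.JThreeDeg.hyp h
  have f17 : Fact (Nat.Prime 17) := ⟨by norm_num⟩
  obtain ⟨P, hP, ⟨D⟩⟩ := H417.BlockCount.exists_SC (G := K) 17 (by norm_num) (by rw [hc]; norm_num)
    (by rw [hc]; norm_num) (fun y hy => (H898.J3Cent.seventeen h hy).1) (e := 8) (t := 2)
    (by rw [hc]) (by norm_num)
  obtain ⟨x, hx⟩ := exists_prime_orderOf_dvd_card' (G := (P : Subgroup K)) 17 (by rw [hP])
  have hx' : orderOf (x : K) = 17 := by rw [Subgroup.orderOf_coe]; exact hx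
  have hperf : commutator K = ⊤ := MTwelve.SmallDegree.commutator_eq_top_of_card (by rw [hc]; norm_num)
  refine ⟨x, hx', exists_mul D (by norm_num) (by norm_num) (by norm_num) x.2
    (fun h1 => by rw [h1, orderOf_one] at hx'; norm_num at hx') (H898.J3Cent.seventeen h hx').1 (d := 152) ?_
    (by norm_num) ?_⟩
  · intro χ hχ h17
    have h1 : dg χ ≠ 1 := fun h1 => hχ (coe_eq_one_of_dg hperf h1)
    have h2 := le_deg hH χ (by rw [hV]; exact_mod_cast h1) (by rw [hV]; omega)
    rw [hV] at h2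
    exact_mod_cast h2
  · calc Nat.card (centralizer ({g} : Set K)) * (8 - 1 + (17 - 8) ^ 2) ≤ 262 * (8 - 1 + (17 - 8) ^ 2) :=
        Nat.mul_le_mul_right _ hg
      _ < 152 ^ 2 := by norm_num

/-- the counting lemma with elements of order 19 -/
theorem mul19 (h : Spor.IsoJ3 K) {g : K} (hg : Nat.card (centralizer ({g} : Set K)) ≤ 66) :
    ∃ x : K, orderOf x = 19 ∧ ∃ a b : K, g = a * x * a⁻¹ * (b * x⁻¹ * b⁻¹) := by
  classical
  obtain ⟨hs, hc, -⟩ := H898.J3Cent.base h
  have hfin : Finite K := Nat.finite_of_card_ne_zero (by rw [hc]; norm_num)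
  have := finite_irr (G := K)
  let _ := Fintype.ofFinite (IrrCharacter K)
  obtain ⟨V, hV, hH⟩ := H417.JThreeDeg.hyp h
  have f19 : Fact (Nat.Prime 19) := ⟨by norm_num⟩
  obtain ⟨P, hP, ⟨D⟩⟩ := H417.BlockCount.exists_SC (G := K) 19 (by norm_num) (by rw [hc]; norm_num)
    (by rw [hc]; norm_num) (fun y hy => H898.J3Cent.card_nineteen h hy) (e := 9) (t := 2)
    (by rw [hc]) (by norm_num)
  obtain ⟨x, hx⟩ := exists_prime_orderOf_dvd_card' (G := (P : Subgroup K)) 19 (by rw [hP])
  have hx' : orderOf (x : K) = 19 := by rw [Subgroup.orderOf_coe]; exact hx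
  have hperf : commutator K = ⊤ := MTwelve.SmallDegree.commutator_eq_top_of_card (by rw [hc]; norm_num)
  refine ⟨x, hx', exists_mul D (by norm_num) (by norm_num) (by norm_num) x.2
    (fun h1 => by rw [h1, orderOf_one] at hx'; norm_num at hx') (H898.J3Cent.card_nineteen h hx') (d := 85) ?_
    (by norm_num) ?_⟩
  · intro χ hχ h17
    have h1 : dg χ ≠ 1 := fun h1 => hχ (coe_eq_one_of_dg hperf h1)
    have h2 := le_deg19 hH χ (by rw [hV]; exact_mod_cast h1) (by rw [hV]; omega)
    rw [hV] at h2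
    exact_mod_cast h2
  · calc Nat.card (centralizer ({g} : Set K)) * (9 - 1 + (19 - 9) ^ 2) ≤ 66 * (9 - 1 + (19 - 9) ^ 2) :=
        Nat.mul_le_mul_right _ hg
      _ < 85 ^ 2 := by norm_num

theorem small (h : Spor.IsoJ3 K) {g : K} (hg : Nat.card (centralizer ({g} : Set K)) ≤ 262) :
    ∃ a b : K, g = a * b * a⁻¹ * b⁻¹ := by
  obtain ⟨x, -, hx⟩ := mul17 h hg
  exact comm_of_mul hx

section coded

open Cfsg.Agent.J3Type.CodeTab Cfsg.Agent.J3Type.CodeFacts Cfsg.Agent.J3Type.CodeGroup
open Cfsg.Agent.J3Type.CharOrder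

variable {t : K} {D : ℕ → K}

/-- every element of the coded group has a power `t` or a power `1` with small exponent -/
theorem pw_b : allN 1920 (fun i => or (Nat.beq (pw i 0) 16) (or (Nat.beq (pw i 1) 16) (or (Nat.beq (pw i 2) 16)
    (or (Nat.beq (pw i 3) 16) (or (Nat.beq (pw i 4) 16) (or (Nat.beq (pw i 5) 16)
    (or (Nat.beq (pw i 0) 0) (or (Nat.beq (pw i 1) 0) (or (Nat.beq (pw i 2) 0) (or (Nat.beq (pw i 3) 0)
    (or (Nat.beq (pw i 4) 0) (Nat.beq (pw i 5) 0)))))))))))) = true := by
  decide +kernel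

theorem pw_cases {i : ℕ} (hi : i < 1920) : (∃ k ≤ 5, pw i k = 16) ∨ ∃ k ≤ 5, pw i k = 0 := by
  have h := allN_spec _ _ pw_b i hi
  simp only [Bool.or_eq_true] at h
  rcases h with h | h | h | h | h | h | h | h | h | h | h | h
  · exact Or.inl ⟨0, by norm_num, eq_of_beq h⟩
  · exact Or.inl ⟨1, by norm_num, eq_of_beq h⟩
  · exact Or.inl ⟨2, by norm_num, eq_of_beq h⟩
  · exact Or.inl ⟨3, by norm_num, eq_of_beq h⟩
  · exact Or.inl ⟨4, by norm_num, eq_of_beq h⟩
  · exact Or.inl ⟨5, by norm_num, eq_of_beq h⟩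
  · exact Or.inr ⟨0, by norm_num, eq_of_beq h⟩
  · exact Or.inr ⟨1, by norm_num, eq_of_beq h⟩
  · exact Or.inr ⟨2, by norm_num, eq_of_beq h⟩
  · exact Or.inr ⟨3, by norm_num, eq_of_beq h⟩
  · exact Or.inr ⟨4, by norm_num, eq_of_beq h⟩
  · exact Or.inr ⟨5, by norm_num, eq_of_beq h⟩

/-- the elements of even order -/
theorem even_cases (h : J3Type.CodeGroup.Coded t D) (hall : ∀ g : K, orderOf g = 2 → IsConj t g) {g : K} {m : ℕ}
    (hm : orderOf (g ^ m) = 2) : IsConj t g ∨ ∃ a : Fin 8, a ≠ 0 ∧ a ≠ 1 ∧ IsConj (y t D a) g := by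
  obtain ⟨i, hi, hc, hp⟩ := h.root (hall _ hm)
  have key : ∃ k ≤ 5, pw i k = 16 := by
    rcases pw_cases hi with h1 | ⟨k, hk, h1⟩
    · exact h1
    · have h2 := (h.pw_one hi k).2 h1
      have h3 : D i ^ (m % (k + 1)) = t := by
        rw [← hp]
        conv_rhs => rw [← Nat.div_add_mod m (k + 1), pow_add, pow_mul, h2, one_pow, one_mul]
      rcases Nat.eq_zero_or_pos (m % (k + 1)) with h4 | h4
      · rw [h4, pow_zero] at h3
        exact absurd h3.symm h.t_ne
      · obtain ⟨j, hj⟩ : ∃ j, m % (k + 1) = j + 1 := ⟨m % (k + 1) - 1, by omega⟩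
        have h5 := Nat.mod_lt m (show 0 < k + 1 by omega)
        rw [hj] at h3
        exact ⟨j, by omega, (h.pw_t hi j).1 h3⟩
  have conj : ∀ x, x < 1920 → (∃ c < 1920, mulN c i = mulN x c) → IsConj (D x) g := fun x hx h1 =>
    (h.conj hx hi h1).trans hc
  by_cases h16 : i = 16
  · left
    rw [h16, h.t_eq] at hc
    exact hc
  right
  obtain ⟨k, hk, h1⟩ := key
  have hk' : k = 0 ∨ k = 1 ∨ k = 2 ∨ k = 3 ∨ k = 4 ∨ k = 5 := by omega
  rcases hk' with rfl | rfl | rfl | rfl | rfl | rfl
  · exact absurd h1 h16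
  · exact ⟨2, by decide, by decide, conj 1 (by norm_num) (root4 hi h1)⟩
  · exact ⟨3, by decide, by decide, conj 496 (by norm_num) (root6 hi h1 h16)⟩
  · exact ⟨4, by decide, by decide, conj 97 (by norm_num) (root8 hi h1)⟩
  · rcases root10 hi h1 h16 with h2 | h2
    · exact ⟨6, by decide, by decide, conj 528 (by norm_num) h2⟩
    · exact ⟨7, by decide, by decide, conj 1456 (by norm_num) h2⟩
  · by_cases h3 : pw i 3 = 0
    · have h4 := (h.pw_one hi 3).2 h3
      have h5 := (h.pw_t hi 5).2 h1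
      have h6 : D i ^ (1 + 1) = t := by
        rw [← h5]
        rw [show 5 + 1 = (3 + 1) + (1 + 1) from rfl, pow_add _ (3 + 1), h4, one_mul]
      exact ⟨2, by decide, by decide, conj 1 (by norm_num) (root4 hi ((h.pw_t hi 1).1 h6))⟩
    · exact ⟨5, by decide, by decide, conj 492 (by norm_num) (root12 hi h1 h3)⟩

theorem wit_t : mulN 1 2 = mulN (mulN 16 2) 1 := by decide +kernel

theorem wit_lt : mulN 16 2 < 1920 := by decide +kernel

/-- involutions are commutators -/
theorem comm_t (h : J3Type.CodeGroup.Coded t D) : ∃ a b : K, t = a * b * a⁻¹ * b⁻¹ := by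
  refine ⟨D 1, D 2, ?_⟩
  have h1 : D 1 * D 2 = t * D 2 * D 1 := by
    rw [h.mul 1 (by norm_num) 2 (by norm_num), ← h.t_eq, h.mul 16 (by norm_num) 2 (by norm_num),
      h.mul _ wit_lt 1 (by norm_num), wit_t]
  rw [h1]
  group

end coded

theorem card_conj {a b : K} (hc : IsConj a b) :
    Nat.card (centralizer ({a} : Set K)) = Nat.card (centralizer ({b} : Set K)) := by
  obtain ⟨c, rfl⟩ := isConj_iff.1 hc
  refine Nat.card_congr ((MulAut.conj c).toEquiv.subtypeEquiv ?_)
  intro y
  simp only [MulEquiv.toEquiv_eq_coe, EquivLike.coe_coe, MulAut.conj_apply, mem_centralizer_singleton_iff]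
  constructor
  · intro h1
    calc c * y * c⁻¹ * (c * a * c⁻¹) = c * (y * a) * c⁻¹ := by group
      _ = c * (a * y) * c⁻¹ := by rw [h1]
      _ = _ := by group
  · intro h1
    have h2 : c * (y * a) * c⁻¹ = c * (a * y) * c⁻¹ := by
      calc c * (y * a) * c⁻¹ = c * y * c⁻¹ * (c * a * c⁻¹) := by group
        _ = c * a * c⁻¹ * (c * y * c⁻¹) := h1
        _ = _ := by group
    exact mul_left_cancel (mul_right_cancel h2)

/-- `C(g) ≤ C(g ^ k)` -/
theorem card_le_pow [Finite K] (g : K) (k : ℕ) :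
    Nat.card (centralizer ({g} : Set K)) ≤ Nat.card (centralizer ({g ^ k} : Set K)) := by
  refine Nat.card_le_card_of_injective (Subgroup.inclusion ?_) (Subgroup.inclusion_injective _)
  intro c hcm
  rw [mem_centralizer_singleton_iff] at hcm ⊢
  exact (show Commute c g from hcm).pow_right _

/-- `|C(g)| ∣ |C(g ^ k)|` -/
theorem card_dvd_pow [Finite K] (g : K) (k : ℕ) :
    Nat.card (centralizer ({g} : Set K)) ∣ Nat.card (centralizer ({g ^ k} : Set K)) := by
  refine Subgroup.card_dvd_of_le ?_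
  intro c hcm
  rw [mem_centralizer_singleton_iff] at hcm ⊢
  exact (show Commute c g from hcm).pow_right _

/-- elements of order 3 with even centralizer are conjugate to `D 480` -/
theorem three_conj [Finite K] {t : K} {D : ℕ → K} (hD : J3Type.CodeGroup.Coded t D)
    (hall : ∀ g : K, orderOf g = 2 → IsConj t g) {g : K} (hg : orderOf g = 3)
    (he : 2 ∣ Nat.card (centralizer ({g} : Set K))) : IsConj (D 480) g := by
  have f2 : Fact (Nat.Prime 2) := ⟨Nat.prime_two⟩
  obtain ⟨s, hs2⟩ := exists_prime_orderOf_dvd_card' (G := centralizer ({g} : Set K)) 2 he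
  have hs2' : orderOf (s : K) = 2 := by rw [Subgroup.orderOf_coe]; exact hs2
  have hsg : Commute (s : K) g := mem_centralizer_singleton_iff.1 s.2
  have hss : (s : K) ^ 2 = 1 := by rw [← hs2']; exact pow_orderOf_eq_one _
  have hg3 : g ^ 3 = 1 := by rw [← hg]; exact pow_orderOf_eq_one _
  have e3 : (g * s) ^ 3 = s := by
    rw [hsg.symm.mul_pow, hg3, one_mul, pow_succ, hss, one_mul]
  have e4 : (g * s) ^ 4 = g := by
    rw [hsg.symm.mul_pow, pow_succ g 3, hg3, one_mul, show (4 : ℕ) = 2 * 2 from rfl, pow_mul, hss, one_pow, mul_one]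
  have ho : orderOf (g * s) = 6 := by
    rw [hsg.symm.orderOf_mul_eq_mul_orderOf_of_coprime (by rw [hg, hs2']; decide), hg, hs2']
  have h1 : IsConj (D 496) (g * s) := by
    rcases even_cases hD hall (g := g * s) (m := 3) (by rw [e3]; exact hs2') with h1 | ⟨a, -, -, h1⟩
    · have h2 := J3Type.CodeGroup.orderOf_conj' h1
      rw [hD.t_order, ho] at h2
      omega
    · have h2 := J3Type.CodeGroup.orderOf_conj' h1
      rw [J3Type.CharOrder.ord_y hD, ho] at h2
      have h3 : a = 3 := (by decide : ∀ a : Fin 8, J3Type.CharOrder.ord a = 6 → a = 3) a h2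
      rw [h3] at h1
      exact h1
  obtain ⟨c, hc⟩ := isConj_iff.1 h1
  have h4 : D 480 = D 496 ^ 4 := ((hD.pw_eq (by norm_num) (by norm_num) 3).2 (by decide +kernel)).symm
  refine isConj_iff.2 ⟨c, ?_⟩
  calc c * D 480 * c⁻¹ = c * D 496 ^ 4 * c⁻¹ := by rw [h4]
    _ = (c * D 496 * c⁻¹) ^ 4 := (conj_pow).symm
    _ = (g * s) ^ 4 := by rw [hc]
    _ = g := e4

/-- elements of order 3 with even centralizer are real -/
theorem real_three (h : Spor.IsoJ3 K) {g : K} (hg : orderOf g = 3) (he : 2 ∣ Nat.card (centralizer ({g} : Set K))) :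
    IsConj g g⁻¹ := by
  obtain ⟨hs, hc, -⟩ := H898.J3Cent.base h
  have hfin : Finite K := Nat.finite_of_card_ne_zero (by rw [hc]; norm_num)
  obtain ⟨t, D, hD, hall⟩ := H417.JThreeCols.exists_coded_iso h
  have f2 : Fact (Nat.Prime 2) := ⟨Nat.prime_two⟩
  obtain ⟨s, hs2⟩ := exists_prime_orderOf_dvd_card' (G := centralizer ({g} : Set K)) 2 he
  have hs2' : orderOf (s : K) = 2 := by rw [Subgroup.orderOf_coe]; exact hs2
  have hsg : Commute (s : K) g := mem_centralizer_singleton_iff.1 s.2
  have hss : (s : K) ^ 2 = 1 := by rw [← hs2']; exact pow_orderOf_eq_one _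
  have hg3 : g ^ 3 = 1 := by rw [← hg]; exact pow_orderOf_eq_one _
  have e3 : (g * s) ^ 3 = s := by
    rw [hsg.symm.mul_pow, hg3, one_mul, pow_succ, hss, one_mul]
  have e4 : (g * s) ^ 4 = g := by
    rw [hsg.symm.mul_pow, pow_succ g 3, hg3, one_mul, show (4 : ℕ) = 2 * 2 from rfl, pow_mul, hss, one_pow, mul_one]
  have hreal : ∀ a : Fin 8, IsConj (J3Type.CharOrder.y t D a) (g * s) → IsConj (g * s) (g * s)⁻¹ := by
    intro a ha
    have h1 := J3Type.CharOrder.y_real hD hall a
    obtain ⟨c, hc⟩ := isConj_iff.1 ha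
    have h2 : IsConj (J3Type.CharOrder.y t D a)⁻¹ (g * s)⁻¹ := isConj_iff.2 ⟨c, by rw [← hc]; group⟩
    exact ha.symm.trans (h1.symm.trans h2)
  have hr : IsConj (g * s) (g * s)⁻¹ := by
    rcases even_cases hD hall (g := g * s) (m := 3) (by rw [e3]; exact hs2') with h1 | ⟨a, -, -, h1⟩
    · exact hreal 1 h1
    · exact hreal a h1
  obtain ⟨c, hc⟩ := isConj_iff.1 hr
  refine isConj_iff.2 ⟨c, ?_⟩
  calc c * g * c⁻¹ = c * (g * s) ^ 4 * c⁻¹ := by rw [e4]
    _ = (c * (g * s) * c⁻¹) ^ 4 := (conj_pow).symm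
    _ = ((g * s)⁻¹) ^ 4 := by rw [hc]
    _ = ((g * s) ^ 4)⁻¹ := inv_pow _ _
    _ = g⁻¹ := by rw [e4]

/-- the centralizer of an element of order 5 -/
theorem card_five [Finite K] (h : Spor.IsoJ3 K) {x : K} (hx : orderOf x = 5) :
    Nat.card (centralizer ({x} : Set K)) ≤ 30 := by
  obtain ⟨hs, hc, -⟩ := H898.J3Cent.base h
  obtain ⟨y, hy, hyc⟩ := H724.IMJThree.exists_five h
  obtain ⟨c, k, hk⟩ := H500.NB.conj_zpowers hc hy hx
  dsimp only at hk
  have h1 : Nat.card (centralizer ({x} : Set K)) = Nat.card (centralizer ({c * x * c⁻¹} : Set K)) :=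
    card_conj (isConj_iff.2 ⟨c, rfl⟩)
  rw [h1, ← hyc, ← hk]
  refine Nat.card_le_card_of_injective (Subgroup.inclusion ?_) (Subgroup.inclusion_injective _)
  intro d hd
  rw [mem_centralizer_singleton_iff] at hd ⊢
  exact (show Commute d (c * x * c⁻¹) from hd).zpow_right _

/-- **The elements of `J₃`** -/
theorem cases_j3 (h : Spor.IsoJ3 K) (g : K) : g = 1 ∨ orderOf g = 2 ∨
    (orderOf g = 3 ∧ 2 ∣ Nat.card (centralizer ({g} : Set K))) ∨ Nat.card (centralizer ({g} : Set K)) ≤ 262 := by
  obtain ⟨hs, hc, h1920⟩ := H898.J3Cent.base h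
  have hfin : Finite K := Nat.finite_of_card_ne_zero (by rw [hc]; norm_num)
  obtain ⟨t, D, hD, hall⟩ := H417.JThreeCols.exists_coded_iso h
  by_cases hg : g = 1
  · exact Or.inl hg
  right
  by_cases h2 : 2 ∣ orderOf g
  · -- even order
    obtain ⟨n, hn⟩ := h2
    have hpos : 0 < orderOf g := orderOf_pos g
    have hn0 : n ≠ 0 := by rintro rfl; omega
    have ho : orderOf (g ^ n) = 2 := by
      rw [orderOf_pow_of_dvd hn0 ⟨2, by rw [hn]; ring⟩, hn]
      exact Nat.mul_div_cancel _ (Nat.pos_of_ne_zero hn0)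
    rcases even_cases hD hall ho with h1 | ⟨a, ha0, ha1, h1⟩
    · left
      rw [← J3Type.CodeGroup.orderOf_conj' h1]
      exact hD.t_order
    · right; right
      rw [← card_conj h1, J3Type.CharOrder.cc_y hD (j := 26163) (by rw [hc])]
      fin_cases a
      · exact absurd rfl ha0
      · exact absurd rfl ha1
      all_goals decide
  right
  · obtain ⟨p, hp, hpd⟩ := Nat.exists_prime_and_dvd (n := orderOf g) (fun h1 => hg (orderOf_eq_one_iff.1 h1))
    obtain ⟨m, hm⟩ := hpd
    have hpos : 0 < orderOf g := orderOf_pos g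
    have hm0 : m ≠ 0 := by rintro rfl; omega
    have ho : orderOf (g ^ m) = p := by
      rw [orderOf_pow_of_dvd hm0 ⟨p, by rw [hm]; ring⟩, hm]
      exact Nat.mul_div_cancel _ (Nat.pos_of_ne_zero hm0)
    have hle := card_le_pow g m
    have hdv := card_dvd_pow g m
    have hcase : p = 3 ∨ p = 5 ∨ p = 17 ∨ p = 19 := by
      have hdvd : p ∣ 50232960 := by rw [← hc, ← ho]; exact orderOf_dvd_natCard _
      have h1 : (50232960 : ℕ) = 2 ^ 7 * 3 ^ 5 * 5 * 17 * 19 := by norm_num
      rw [h1] at hdvd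
      have q : ∀ q : ℕ, q.Prime → p ∣ q → p = q := fun q hq h => (Nat.prime_dvd_prime_iff_eq hp hq).1 h
      rcases (Nat.Prime.dvd_mul hp).1 hdvd with h3 | h3
      · rcases (Nat.Prime.dvd_mul hp).1 h3 with h3 | h3
        · rcases (Nat.Prime.dvd_mul hp).1 h3 with h3 | h3
          · rcases (Nat.Prime.dvd_mul hp).1 h3 with h3 | h3
            · exfalso
              have h4 := q 2 (by norm_num) (hp.dvd_of_dvd_pow h3)
              exact h2 ⟨m, by rw [hm, h4]⟩
            · exact Or.inl (q 3 (by norm_num) (hp.dvd_of_dvd_pow h3))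
          · exact Or.inr (Or.inl (q 5 (by norm_num) h3))
        · exact Or.inr (Or.inr (Or.inl (q 17 (by norm_num) h3)))
      · exact Or.inr (Or.inr (Or.inr (q 19 (by norm_num) h3)))
    rcases hcase with rfl | rfl | rfl | rfl
    · rcases H305.OddJ3.cent_three h ho with h3 | h3
      · -- the centralizer of order 1080
        by_cases he : 2 ∣ Nat.card (centralizer ({g} : Set K))
        · -- then the order is 3 or 15
          have f2 : Fact (Nat.Prime 2) := ⟨Nat.prime_two⟩
          obtain ⟨s, hs2⟩ := exists_prime_orderOf_dvd_card' (G := centralizer ({g} : Set K)) 2 he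
          have hs2' : orderOf (s : K) = 2 := by rw [Subgroup.orderOf_coe]; exact hs2
          have hgs : g ∈ centralizer ({(s : K)} : Set K) :=
            mem_centralizer_singleton_iff.2 (mem_centralizer_singleton_iff.1 s.2).symm
          have h4 : orderOf g ∣ 1920 := by
            have h5 := Subgroup.orderOf_dvd_natCard _ hgs
            rwa [H724.IMJThree.card_two h hs2'] at h5
          have h5 : orderOf g ∣ 15 := by
            have h6 : Nat.Coprime (orderOf g) 128 := by
              rw [show (128 : ℕ) = 2 ^ 7 from rfl]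
              exact Nat.Coprime.pow_right 7 ((Nat.Prime.coprime_iff_not_dvd Nat.prime_two).2 h2).symm
            exact h6.dvd_of_dvd_mul_right (show _ ∣ 15 * 128 from h4)
          have h6 : orderOf g = 3 ∨ orderOf g = 15 := by
            have h7 : 3 ∣ orderOf g := ⟨m, hm⟩
            have h8 := Nat.le_of_dvd (by norm_num) h5
            generalize orderOf g = n at h5 h7 h8
            interval_cases n <;> revert h5 h7 <;> decide
          rcases h6 with h6 | h6
          · exact Or.inl ⟨h6, he⟩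
          · right
            refine (card_le_pow g 3).trans ((card_five h ?_).trans (by norm_num))
            rw [orderOf_pow, h6]
            decide
        · right
          rw [h3] at hdv
          have h4 : Nat.Coprime (Nat.card (centralizer ({g} : Set K))) 8 := by
            rw [show (8 : ℕ) = 2 ^ 3 from rfl]
            exact Nat.Coprime.pow_right 3 ((Nat.Prime.coprime_iff_not_dvd Nat.prime_two).2 he).symm
          have h5 : Nat.card (centralizer ({g} : Set K)) ∣ 135 :=
            h4.dvd_of_dvd_mul_right (show _ ∣ 135 * 8 from hdv)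
          exact (Nat.le_of_dvd (by norm_num) h5).trans (by norm_num)
      · right
        refine hle.trans ?_
        exact (Nat.le_of_dvd (by norm_num) h3).trans (by norm_num)
    · exact Or.inr (hle.trans ((card_five h ho).trans (by norm_num)))
    · right
      refine hle.trans ?_
      rw [(H898.J3Cent.seventeen h ho).1]
      norm_num
    · right
      refine hle.trans ?_
      rw [H898.J3Cent.card_nineteen h ho]
      norm_num

/-- **Ore's conjecture for `J₃`.** -/
theorem row_j3 (h : Spor.IsoJ3 K) (g : K) : ∃ a b : K, g = a * b * a⁻¹ * b⁻¹ := by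
  obtain ⟨hs, hc, -⟩ := H898.J3Cent.base h
  have hfin : Finite K := Nat.finite_of_card_ne_zero (by rw [hc]; norm_num)
  rcases cases_j3 h g with hg | hg | ⟨hg, he⟩ | hg
  · exact ⟨1, 1, by rw [hg]; group⟩
  · obtain ⟨t, D, hD, hall⟩ := H417.JThreeCols.exists_coded_iso h
    exact comm_conj (hall g hg) (comm_t hD)
  · exact of_real (by rw [hg]; decide) (real_three h hg he)
  · exact small h hg

end Cfsg.Agent.H455.Ore.J3
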