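import Cfsg.Agent.H455.Ore.J1
import Cfsg.Agent.H455.Ore.J3
import Cfsg.Agent.H78.Pw.Base
import Cfsg.Agent.H777.Ore.Base

/-!
# Products of two `m`-th powers in `J₁` and `J₃` (S2465), four involutions in `J₃` (S4171) (helper455)
-/

set_option autoImplicit false

namespace Cfsg.Agent.H455.Ore

open Cfsg Subgroup
open Cfsg.Agent.Characters.Core
open Cfsg.Agent.M23Order.Base
open Cfsg.Agent.H78.Pw

universe u

variable {K : Type u} [Group K]

theorem orderOf_cj (a x : K) : orderOf (a * x * a⁻¹) = orderOf x :=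
  (MulEquiv.orderOf_eq (MulAut.conj a) x)

/-- products of conjugates of an element of prime order -/
theorem pr_of_mul {n q : ℕ} {g : K} (hq : q.Prime) (hn : ¬ q ∣ n)
    (h : ∃ x : K, orderOf x = q ∧ ∃ a b : K, g = a * x * a⁻¹ * (b * x⁻¹ * b⁻¹)) : Pr n g := by
  obtain ⟨x, hx, a, b, hg⟩ := h
  have hc : q.Coprime n := (Nat.Prime.coprime_iff_not_dvd hq).2 hn
  exact Pr.mk hg (by rwa [orderOf_cj, hx]) (by rwa [orderOf_cj, orderOf_inv, hx])

section JOne

open Cfsg.Agent.H413.JOneSpec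
open Cfsg.Agent.SporRec.J1.Defs

theorem j1_eleven [Finite K] [IsSimpleGroup K] (h : Local K) (hc : Nat.card K = 175560) {g : K} (hg : g ≠ 1) :
    ∃ x : K, orderOf x = 11 ∧ ∃ a b : K, g = a * x * a⁻¹ * (b * x⁻¹ * b⁻¹) := by
  have f11 : Fact (Nat.Prime 11) := ⟨by norm_num⟩
  obtain ⟨P, hP, ⟨D⟩⟩ := H417.BlockCount.exists_SC (G := K) 11 (by norm_num) (by rw [hc]; norm_num)
    (by rw [hc]; norm_num) (fun y hy => by rw [H417.JOneDeg.card_cent h hc (by rw [hy]; unfold Big; tauto), hy])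
    (e := 10) (t := 1) (by rw [hc]) (by norm_num)
  obtain ⟨x, hx⟩ := exists_prime_orderOf_dvd_card' (G := (P : Subgroup K)) 11 (by rw [hP])
  have hx' : orderOf (x : K) = 11 := by rw [Subgroup.orderOf_coe]; exact hx
  have hperf : commutator K = ⊤ := MTwelve.SmallDegree.commutator_eq_top_of_card (by rw [hc]; norm_num)
  obtain ⟨h1, -⟩ := H175.Eight.key_j1 h hc
  refine ⟨x, hx', exists_mul D (by norm_num) (by norm_num) (by norm_num) x.2
    (fun h1 => by rw [h1, orderOf_one] at hx'; norm_num at hx')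
    (by rw [H417.JOneDeg.card_cent h hc (by rw [hx']; unfold Big; tauto), hx']) (d := 56) ?_ (by norm_num) ?_⟩
  · intro χ hχ _
    have h2 := h1 χ
    simp only [List.mem_cons, List.not_mem_nil, or_false] at h2
    have h3 : dg χ ≠ 1 := fun h3 => hχ (coe_eq_one_of_dg hperf h3)
    omega
  · have h2 := j1_cent h hc hg
    calc Nat.card (centralizer ({g} : Set K)) * (10 - 1 + (11 - 10) ^ 2) ≤ 120 * (10 - 1 + (11 - 10) ^ 2) :=
        Nat.mul_le_mul_right _ h2
      _ < 56 ^ 2 := by norm_num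

theorem j1_seven [Finite K] [IsSimpleGroup K] (h : Local K) (hc : Nat.card K = 175560) {g : K} (hg : g ≠ 1) :
    ∃ x : K, orderOf x = 7 ∧ ∃ a b : K, g = a * x * a⁻¹ * (b * x⁻¹ * b⁻¹) := by
  have f7 : Fact (Nat.Prime 7) := ⟨by norm_num⟩
  obtain ⟨P, hP, ⟨D⟩⟩ := H417.BlockCount.exists_SC (G := K) 7 (by norm_num) (by rw [hc]; norm_num)
    (by rw [hc]; norm_num) (fun y hy => by rw [H417.JOneDeg.card_cent h hc (by rw [hy]; unfold Big; tauto), hy])
    (e := 6) (t := 1) (by rw [hc]) (by norm_num)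
  obtain ⟨x, hx⟩ := exists_prime_orderOf_dvd_card' (G := (P : Subgroup K)) 7 (by rw [hP])
  have hx' : orderOf (x : K) = 7 := by rw [Subgroup.orderOf_coe]; exact hx
  have hperf : commutator K = ⊤ := MTwelve.SmallDegree.commutator_eq_top_of_card (by rw [hc]; norm_num)
  obtain ⟨h1, -⟩ := H175.Eight.key_j1 h hc
  refine ⟨x, hx', exists_mul D (by norm_num) (by norm_num) (by norm_num) x.2
    (fun h1 => by rw [h1, orderOf_one] at hx'; norm_num at hx')
    (by rw [H417.JOneDeg.card_cent h hc (by rw [hx']; unfold Big; tauto), hx']) (d := 56) ?_ (by norm_num) ?_⟩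
  · intro χ hχ _
    have h2 := h1 χ
    simp only [List.mem_cons, List.not_mem_nil, or_false] at h2
    have h3 : dg χ ≠ 1 := fun h3 => hχ (coe_eq_one_of_dg hperf h3)
    omega
  · have h2 := j1_cent h hc hg
    calc Nat.card (centralizer ({g} : Set K)) * (6 - 1 + (7 - 6) ^ 2) ≤ 120 * (6 - 1 + (7 - 6) ^ 2) :=
        Nat.mul_le_mul_right _ h2
      _ < 56 ^ 2 := by norm_num

theorem j1_pw [Finite K] [IsSimpleGroup K] (h : Local K) (hc : Nat.card K = 175560) : Pw K := by
  refine ⟨fun g => ?_, fun p hp h5 g => ?_⟩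
  · by_cases hg : g = 1
    · rw [hg]; exact Pr.one 6
    · exact pr_of_mul (q := 11) (by norm_num) (by norm_num) (j1_eleven h hc hg)
  · by_cases hg : g = 1
    · rw [hg]; exact Pr.one p
    · by_cases h11 : p = 11
      · exact pr_of_mul (q := 7) (by norm_num) (by rw [h11]; norm_num) (j1_seven h hc hg)
      · exact pr_of_mul (q := 11) (by norm_num) (fun h1 => h11
          ((Nat.prime_dvd_prime_iff_eq (by norm_num) hp).1 h1).symm) (j1_eleven h hc hg)

/-- **S2465 for `J₁`** -/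
theorem pw_j1 (h : Spor.IsoJ1 K) : Pw K := by
  obtain ⟨e⟩ := h
  have : IsSimpleGroup Spor.J1 := SporadicB.J1.Main.isJ1.1
  have hfin : Finite Spor.J1 := Nat.finite_of_card_ne_zero (by rw [H413.JOneLocal.card_J1]; norm_num)
  obtain ⟨h1, h2⟩ := j1_pw H413.JOneLocal.isLocal H413.JOneLocal.card_J1
  exact ⟨h1.congr e.symm, fun p hp h5 => (h2 p hp h5).congr e.symm⟩

end JOne

section JThree

open Cfsg.Agent.J3Type.CodeTab Cfsg.Agent.J3Type.CodeFacts Cfsg.Agent.J3Type.CodeGroup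
open Cfsg.Agent.H455.Ore.J3
open Cfsg.Agent.H777.Ore

theorem t17 : mulN 512 544 = 960 ∧ pw 960 1 = 0 ∧ pw 512 4 = 0 ∧ pw 544 4 = 0 := by decide +kernel

theorem t18 : mulN 800 1536 = 480 ∧ pw 800 4 = 0 ∧ pw 1536 4 = 0 := by decide +kernel

theorem t19 : mulN 96 864 = 480 ∧ pw 96 1 = 0 ∧ pw 864 1 = 0 := by decide +kernel

/-- involutions and elements of order 3 with even centralizer are products of two elements of order dividing 5 -/
theorem five_five [Finite K] (h : Spor.IsoJ3 K) {g : K} (hg : orderOf g = 2 ∨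
    (orderOf g = 3 ∧ 2 ∣ Nat.card (centralizer ({g} : Set K)))) : ∃ a b : K, g = a * b ∧ a ^ 5 = 1 ∧ b ^ 5 = 1 := by
  obtain ⟨t, D, hD, hall⟩ := H417.JThreeCols.exists_coded_iso h
  obtain ⟨e1, e2, e3, e4⟩ := t17
  obtain ⟨f1, f2, f3⟩ := t18
  have key : ∀ y : K, IsConj y g → (∃ a b : K, y = a * b ∧ a ^ 5 = 1 ∧ b ^ 5 = 1) →
      ∃ a b : K, g = a * b ∧ a ^ 5 = 1 ∧ b ^ 5 = 1 := by
    rintro y hy ⟨a, b, rfl, ha, hb⟩
    obtain ⟨c, rfl⟩ := isConj_iff.1 hy
    refine ⟨c * a * c⁻¹, c * b * c⁻¹, by group, ?_, ?_⟩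
    · rw [conj_pow, ha]; group
    · rw [conj_pow, hb]; group
  rcases hg with hg | ⟨hg, he⟩
  · refine key (D 960) ?_ ⟨D 512, D 544, ?_, (hD.pw_one (by norm_num) 4).2 e3, (hD.pw_one (by norm_num) 4).2 e4⟩
    · have h2 : orderOf (D 960) = 2 := by
        refine orderOf_eq_prime ((hD.pw_one (by norm_num) 1).2 e2) ?_
        rw [← hD.one]
        exact hD.ne (by norm_num) (by norm_num) (by norm_num)
      exact (hall _ h2).symm.trans (hall g hg)
    · rw [hD.mul _ (by norm_num) _ (by norm_num), e1]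
  · refine key (D 480) (three_conj hD hall hg he) ⟨D 800, D 1536, ?_, (hD.pw_one (by norm_num) 4).2 f2,
      (hD.pw_one (by norm_num) 4).2 f3⟩
    rw [hD.mul _ (by norm_num) _ (by norm_num), f1]

theorem coprime_of_pow_five {a : K} {n : ℕ} (ha : a ^ 5 = 1) (hn : ¬ 5 ∣ n) : (orderOf a).Coprime n :=
  Nat.Coprime.of_dvd_left (orderOf_dvd_of_pow_eq_one ha) ((Nat.Prime.coprime_iff_not_dvd (by norm_num)).2 hn)

/-- **S2465 for `J₃`** -/
theorem pw_j3 (h : Spor.IsoJ3 K) : Pw K := by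
  obtain ⟨hs, hc, -⟩ := H898.J3Cent.base h
  have hfin : Finite K := Nat.finite_of_card_ne_zero (by rw [hc]; norm_num)
  have main : ∀ n : ℕ, ¬ 5 ∣ n → ¬ 17 ∣ n → ∀ g : K, Pr n g := by
    intro n h5 h17 g
    rcases cases_j3 h g with hg | hg | hg | hg
    · rw [hg]; exact Pr.one n
    · obtain ⟨a, b, hab, ha, hb⟩ := five_five h (Or.inl hg)
      exact Pr.mk hab (coprime_of_pow_five ha h5) (coprime_of_pow_five hb h5)
    · obtain ⟨a, b, hab, ha, hb⟩ := five_five h (Or.inr hg)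
      exact Pr.mk hab (coprime_of_pow_five ha h5) (coprime_of_pow_five hb h5)
    · exact pr_of_mul (q := 17) (by norm_num) h17 (mul17 h hg)
  refine ⟨main 6 (by norm_num) (by norm_num), fun p hp h5 g => ?_⟩
  by_cases hd : p ∣ orderOf g
  · obtain ⟨m, hm⟩ := hd
    have hpos : 0 < orderOf g := orderOf_pos g
    have hm0 : m ≠ 0 := by rintro rfl; omega
    have ho : orderOf (g ^ m) = p := by
      rw [orderOf_pow_of_dvd hm0 ⟨p, by rw [hm]; ring⟩, hm]
      exact Nat.mul_div_cancel _ (Nat.pos_of_ne_zero hm0)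
    have hle := card_le_pow g m
    by_cases hp5 : p = 5
    · subst hp5
      exact pr_of_mul (q := 17) (by norm_num) (by norm_num) (mul17 h (hle.trans ((card_five h ho).trans (by norm_num))))
    by_cases hp17 : p = 17
    · subst hp17
      rw [(H898.J3Cent.seventeen h ho).1] at hle
      exact pr_of_mul (q := 19) (by norm_num) (by norm_num) (mul19 h (hle.trans (by norm_num)))
    · exact main p (fun h1 => hp5 ((Nat.prime_dvd_prime_iff_eq (by norm_num) hp).1 h1).symm)
        (fun h1 => hp17 ((Nat.prime_dvd_prime_iff_eq (by norm_num) hp).1 h1).symm) g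
  · exact Pr.of_coprime ((Nat.Prime.coprime_iff_not_dvd hp).2 hd).symm

/-- an element of odd prime order `p`, inverted by an involution -/
theorem exists_inv_of_even [Finite K] {p : ℕ} (hp : p.Prime) {x : K} (hx : orderOf x = p)
    (hC : Nat.card (centralizer ({x} : Set K)) = p) (hp2 : p ≠ 2)
    (hN : 2 ∣ Nat.card (normalizer ((zpowers x : Subgroup K) : Set K))) : ∃ s : K, s * s = 1 ∧ s * x * s⁻¹ = x⁻¹ := by
  have f2 : Fact (Nat.Prime 2) := ⟨Nat.prime_two⟩
  obtain ⟨s, hs⟩ := exists_prime_orderOf_dvd_card' (G := normalizer ((zpowers x : Subgroup K) : Set K)) 2 hN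
  have hs' : orderOf (s : K) = 2 := by rw [Subgroup.orderOf_coe]; exact hs
  have hss : (s : K) * s = 1 := by rw [← pow_two, ← hs']; exact pow_orderOf_eq_one _
  have hsi : (s : K)⁻¹ = s := inv_eq_of_mul_eq_one_left hss
  refine ⟨s, hss, ?_⟩
  set y : K := s * x * (s : K)⁻¹ with hy
  have hmem : y ∈ zpowers x := (mem_normalizer_iff.1 s.2 x).1 (mem_zpowers x)
  have hyx : y * x = x * y := by
    obtain ⟨k, hk⟩ := hmem
    dsimp only at hk
    rw [← hk]
    exact ((Commute.refl x).zpow_left k).eq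
  have hsy : (s : K) * y * (s : K)⁻¹ = x := by
    rw [hy, hsi]
    calc (s : K) * (s * x * s) * s = (s * s) * x * (s * s) := by group
      _ = x := by rw [hss]; group
  -- `x y` is centralized by `s`
  have hz : (s : K) * (x * y) * (s : K)⁻¹ = x * y := by
    calc (s : K) * (x * y) * (s : K)⁻¹ = (s * x * (s : K)⁻¹) * (s * y * (s : K)⁻¹) := by group
      _ = y * x := by rw [hsy, ← hy]
      _ = _ := hyx
  have hzm : x * y ∈ zpowers x := mul_mem (mem_zpowers x) hmem
  by_contra hne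
  have hxy : x * y ≠ 1 := fun h1 => hne (eq_inv_of_mul_eq_one_right h1)
  -- `x` is a power of `x y`
  have hcx : Nat.card (zpowers x) = p := by rw [Nat.card_zpowers, hx]
  have hzo : orderOf (x * y) = p := by
    have h1 : orderOf (x * y) ∣ p := by
      rw [← hcx]
      have := orderOf_dvd_natCard (⟨x * y, hzm⟩ : zpowers x)
      rwa [Subgroup.orderOf_mk] at this
    rcases (Nat.dvd_prime hp).1 h1 with h2 | h2
    · exact absurd (orderOf_eq_one_iff.1 h2) hxy
    · exact h2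
  have heq : zpowers (x * y) = zpowers x := by
    refine Subgroup.eq_of_le_of_card_ge (zpowers_le.2 hzm) ?_
    rw [hcx, Nat.card_zpowers, hzo]
  have hxm : x ∈ zpowers (x * y) := by rw [heq]; exact mem_zpowers x
  obtain ⟨k, hk⟩ := hxm
  dsimp only at hk
  have hcs : (s : K) ∈ centralizer ({x} : Set K) := by
    rw [mem_centralizer_singleton_iff]
    have h1 : Commute (s : K) (x * y) := mul_inv_eq_iff_eq_mul.1 hz
    have h2 := h1.zpow_right k
    rw [hk] at h2
    exact h2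
  have h2 := Subgroup.orderOf_dvd_natCard _ hcs
  rw [hs', hC] at h2
  exact hp2 ((Nat.prime_dvd_prime_iff_eq Nat.prime_two hp).1 h2).symm

/-- a product of a conjugate of `x` and a conjugate of `x⁻¹`, `x` strongly real -/
theorem i4_of_mul' {x s g : K} (hs : s * s = 1) (hx : s * x * s⁻¹ = x⁻¹)
    (h : ∃ a b : K, g = a * x * a⁻¹ * (b * x⁻¹ * b⁻¹)) : I4 g := by
  obtain ⟨a, b, rfl⟩ := h
  have hsi : s⁻¹ = s := inv_eq_of_mul_eq_one_left hs
  rw [hsi] at hx
  have h1 : (s * x) * (s * x) = 1 := by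
    calc (s * x) * (s * x) = (s * x * s) * x := by group
      _ = 1 := by rw [hx]; group
  have cj : ∀ c y : K, y * y = 1 → (c * y * c⁻¹) * (c * y * c⁻¹) = 1 := by
    intro c y hy
    calc (c * y * c⁻¹) * (c * y * c⁻¹) = c * (y * y) * c⁻¹ := by group
      _ = 1 := by rw [hy]; group
  refine ⟨a * s * a⁻¹, a * (s * x) * a⁻¹, b * (s * x) * b⁻¹, b * s * b⁻¹, cj a s hs, cj a _ h1, cj b _ h1, cj b s hs, ?_⟩
  have h2 : x⁻¹ = s * x * s := hx.symm
  calc a * x * a⁻¹ * (b * x⁻¹ * b⁻¹) = a * ((s * s) * x) * a⁻¹ * (b * (s * x * s) * b⁻¹) := by rw [hs, one_mul, h2]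
    _ = _ := by group

/-- **S4171 for `J₃`** -/
theorem four_j3 (h : Spor.IsoJ3 K) : Inv4 K := by
  intro g
  obtain ⟨hs, hc, -⟩ := H898.J3Cent.base h
  have hfin : Finite K := Nat.finite_of_card_ne_zero (by rw [hc]; norm_num)
  rcases cases_j3 h g with hg | hg | ⟨hg, he⟩ | hg
  · exact ⟨1, 1, 1, 1, by group, by group, by group, by group, by rw [hg]; group⟩
  · refine ⟨g, 1, 1, 1, ?_, by group, by group, by group, by group⟩
    rw [← pow_two, ← hg]; exact pow_orderOf_eq_one _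
  · obtain ⟨t, D, hD, hall⟩ := H417.JThreeCols.exists_coded_iso h
    obtain ⟨e1, e2, e3⟩ := t19
    obtain ⟨c, hcg⟩ := isConj_iff.1 (three_conj hD hall hg he)
    have h1 : D 96 * D 96 = 1 := by rw [← pow_two]; exact (hD.pw_one (by norm_num) 1).2 e2
    have h2 : D 864 * D 864 = 1 := by rw [← pow_two]; exact (hD.pw_one (by norm_num) 1).2 e3
    have cj : ∀ c y : K, y * y = 1 → (c * y * c⁻¹) * (c * y * c⁻¹) = 1 := by
      intro c y hy
      calc (c * y * c⁻¹) * (c * y * c⁻¹) = c * (y * y) * c⁻¹ := by group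
        _ = 1 := by rw [hy]; group
    refine ⟨c * D 96 * c⁻¹, c * D 864 * c⁻¹, 1, 1, cj c _ h1, cj c _ h2, by group, by group, ?_⟩
    have h3 : D 96 * D 864 = D 480 := by rw [hD.mul _ (by norm_num) _ (by norm_num), e1]
    rw [← hcg, ← h3]
    group
  · obtain ⟨x, hx, hab⟩ := mul17 h hg
    obtain ⟨h1, h2⟩ := H898.J3Cent.seventeen h hx
    obtain ⟨s, hs1, hs2⟩ := exists_inv_of_even (by norm_num) hx h1 (by norm_num) (by rw [h2]; norm_num)
    exact i4_of_mul' hs1 hs2 hab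

end JThree

end Cfsg.Agent.H455.Ore
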