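import Cfsg.Agent.Characters.ClassMul
import Cfsg.Agent.H417.BlockCount

/-!
# Ore's conjecture: the counting lemma for a self-centralizing class of prime order (helper455)

* `of_real` : a real element of odd order is a commutator, `sq_real` : the square of a real element is a commutator;
* `exists_comm` : `g` is a commutator if `|C(g)| ((e - 1) + (p - e)²) < d²`, `d` = least degree `≠ 1` prime to `p`.
-/

set_option autoImplicit false
set_option linter.unusedSectionVars false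

namespace Cfsg.Agent.H455.Ore

open Cfsg Subgroup
open Cfsg.Agent.Characters.Core
open Cfsg.Agent.M23Order.Base
open scoped ComplexConjugate

universe u

variable {G : Type u} [Group G]

/-- being a commutator is invariant under conjugation -/
theorem comm_conj {g h : G} (hc : IsConj g h) (hg : ∃ a b : G, g = a * b * a⁻¹ * b⁻¹) :
    ∃ a b : G, h = a * b * a⁻¹ * b⁻¹ := by
  obtain ⟨c, rfl⟩ := isConj_iff.1 hc
  obtain ⟨a, b, rfl⟩ := hg
  exact ⟨c * a * c⁻¹, c * b * c⁻¹, by group⟩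

/-- a real element of odd order is a commutator -/
theorem of_real {g : G} (ho : Odd (orderOf g)) (hr : IsConj g g⁻¹) : ∃ a b : G, g = a * b * a⁻¹ * b⁻¹ := by
  obtain ⟨c, hc⟩ := isConj_iff.1 hr
  obtain ⟨k, hk⟩ := ho
  refine ⟨c, g ^ k, ?_⟩
  have h1 : c * g ^ k * c⁻¹ = (g ^ k)⁻¹ := by rw [← conj_pow, hc, inv_pow]
  rw [h1]
  have h2 : g ^ k * g ^ k * g = 1 := by
    rw [← pow_add, ← pow_succ, ← two_mul, ← hk, pow_orderOf_eq_one]
  rw [← mul_inv_rev]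
  exact eq_inv_of_mul_eq_one_right h2

/-- the square of a real element is a commutator -/
theorem sq_real {g : G} (hr : IsConj g g⁻¹) : ∃ a b : G, g * g = a * b * a⁻¹ * b⁻¹ := by
  obtain ⟨c, hc⟩ := isConj_iff.1 hr
  refine ⟨c, g⁻¹, ?_⟩
  have h1 : c * g⁻¹ * c⁻¹ = g := by rw [← conj_inv, hc, inv_inv]
  rw [h1, inv_inv]

/-- `χ(x⁻¹)` -/
theorem inv_val [Finite G] (χ : IrrCharacter G) (x : G) : (χ : G → ℂ) x⁻¹ = conj ((χ : G → ℂ) x) :=
  isCharacter_apply_inv (isIrr_isCharacter χ.2) x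

/-- column orthogonality -/
theorem sum_normSq [Finite G] [Fintype (IrrCharacter G)] (g : G) :
    ∑ χ : IrrCharacter G, ‖(χ : G → ℂ) g‖ ^ 2 = (Nat.card (centralizer ({g} : Set G)) : ℝ) := by
  have h := (Cfsg.Agent.S0145.result g g).1 (IsConj.refl _)
  have h2 : ∑ χ : IrrCharacter G, (χ : G → ℂ) g * conj ((χ : G → ℂ) g)
      = ((∑ χ : IrrCharacter G, ‖(χ : G → ℂ) g‖ ^ 2 : ℝ) : ℂ) := by
    push_cast
    refine Finset.sum_congr rfl fun χ _ => ?_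
    rw [Complex.mul_conj, Complex.normSq_eq_norm_sq]
    push_cast
    rfl
  rw [finsum_eq_sum_of_fintype, h2] at h
  exact_mod_cast h

/-- the class product: if `g` is no product of a conjugate of `x` and a conjugate of `x⁻¹`, a character sum vanishes -/
theorem sum_eq_zero' [Finite G] [Fintype (IrrCharacter G)] {x g : G}
    (hg : ¬ ∃ a b : G, g = a * x * a⁻¹ * (b * x⁻¹ * b⁻¹)) :
    ∑ χ : IrrCharacter G, ((‖(χ : G → ℂ) x‖ ^ 2 : ℝ) : ℂ) * conj ((χ : G → ℂ) g) / (χ : G → ℂ) 1 = 0 := by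
  have h := Characters.ClassMul.card_class_mul x x⁻¹ g
  have hemp : IsEmpty {p : G × G // IsConj x p.1 ∧ IsConj x⁻¹ p.2 ∧ p.1 * p.2 = g} := by
    constructor
    rintro ⟨⟨u, v⟩, hu, hv, huv⟩
    obtain ⟨c, rfl⟩ := isConj_iff.1 hu
    obtain ⟨d, rfl⟩ := isConj_iff.1 hv
    exact hg ⟨c, d, huv.symm⟩
  rw [Nat.card_of_isEmpty, Nat.cast_zero] at h
  have h1 : ((centralizer ({x} : Set G)).index : ℂ) ≠ 0 := by exact_mod_cast Subgroup.index_ne_zero_of_finite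
  have h2 : ((centralizer ({x⁻¹} : Set G)).index : ℂ) ≠ 0 := by exact_mod_cast Subgroup.index_ne_zero_of_finite
  have h3 : (Nat.card G : ℂ) ≠ 0 := by exact_mod_cast Nat.card_pos.ne'
  have h4 := (mul_eq_zero.1 h.symm).resolve_left (div_ne_zero (mul_ne_zero h1 h2) h3)
  rw [← h4]
  refine Finset.sum_congr rfl fun χ _ => ?_
  rw [inv_val, Complex.mul_conj, Complex.normSq_eq_norm_sq]

/-- a product of conjugates of `x` and `x⁻¹` is a commutator -/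
theorem comm_of_mul {x g : G} (h : ∃ a b : G, g = a * x * a⁻¹ * (b * x⁻¹ * b⁻¹)) :
    ∃ a b : G, g = a * b * a⁻¹ * b⁻¹ := by
  obtain ⟨c, d, rfl⟩ := h
  exact ⟨c * d⁻¹, d * x * d⁻¹, by group⟩

/-- the counting lemma: `a χ = |χ(x)|²` -/
theorem exists_mul_of_sum [Finite G] [Fintype (IrrCharacter G)] {x g : G} {S d : ℝ} (hd0 : 0 < d)
    (hd : ∀ χ : IrrCharacter G, (χ : G → ℂ) ≠ 1 → (χ : G → ℂ) x ≠ 0 → d ≤ dg χ)
    (hS : ∀ A : Finset (IrrCharacter G), (∀ χ ∈ A, (χ : G → ℂ) ≠ 1) → ∑ χ ∈ A, (‖(χ : G → ℂ) x‖ ^ 2) ^ 2 ≤ S)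
    (hlt : (Nat.card (centralizer ({g} : Set G)) : ℝ) * S < d ^ 2) :
    ∃ a b : G, g = a * x * a⁻¹ * (b * x⁻¹ * b⁻¹) := by
  classical
  by_contra hg
  have h1 := sum_eq_zero' (x := x) hg
  set e : IrrCharacter G := ⟨1, isIrr_one⟩ with he
  have hev : ∀ y : G, (e : G → ℂ) y = 1 := fun y => rfl
  rw [← Finset.add_sum_erase _ _ (Finset.mem_univ e), hev, hev, hev] at h1
  simp only [norm_one, one_pow, Complex.ofReal_one, map_one, mul_one, div_one] at h1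
  -- the norm of the rest
  have h2 : (1 : ℝ) ≤ ∑ χ ∈ Finset.univ.erase e, ‖(χ : G → ℂ) x‖ ^ 2 * ‖(χ : G → ℂ) g‖ / dg χ := by
    have h3 : (1 : ℂ) = -∑ χ ∈ Finset.univ.erase e,
        ((‖(χ : G → ℂ) x‖ ^ 2 : ℝ) : ℂ) * conj ((χ : G → ℂ) g) / (χ : G → ℂ) 1 := eq_neg_of_add_eq_zero_left h1
    calc (1 : ℝ) = ‖(1 : ℂ)‖ := by simp
      _ = ‖∑ χ ∈ Finset.univ.erase e,
        ((‖(χ : G → ℂ) x‖ ^ 2 : ℝ) : ℂ) * conj ((χ : G → ℂ) g) / (χ : G → ℂ) 1‖ := by rw [h3, norm_neg]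
      _ ≤ ∑ χ ∈ Finset.univ.erase e,
        ‖((‖(χ : G → ℂ) x‖ ^ 2 : ℝ) : ℂ) * conj ((χ : G → ℂ) g) / (χ : G → ℂ) 1‖ := norm_sum_le _ _
      _ = _ := by
        refine Finset.sum_congr rfl fun χ _ => ?_
        rw [dg_eq, norm_div, norm_mul, Complex.norm_real, RCLike.norm_conj, Complex.norm_natCast,
          Real.norm_of_nonneg (by positivity)]
  -- divide by `d`
  have hne : ∀ χ ∈ Finset.univ.erase e, (χ : G → ℂ) ≠ 1 := by
    intro χ hχ h
    exact (Finset.mem_erase.1 hχ).1 (Subtype.ext h)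
  have h3 : d ≤ ∑ χ ∈ Finset.univ.erase e, ‖(χ : G → ℂ) x‖ ^ 2 * ‖(χ : G → ℂ) g‖ := by
    calc d = d * 1 := (mul_one d).symm
      _ ≤ d * ∑ χ ∈ Finset.univ.erase e, ‖(χ : G → ℂ) x‖ ^ 2 * ‖(χ : G → ℂ) g‖ / dg χ :=
        mul_le_mul_of_nonneg_left h2 hd0.le
      _ = ∑ χ ∈ Finset.univ.erase e, d * (‖(χ : G → ℂ) x‖ ^ 2 * ‖(χ : G → ℂ) g‖ / dg χ) := Finset.mul_sum _ _ _
      _ ≤ _ := by
        refine Finset.sum_le_sum fun χ hχ => ?_
        by_cases h0 : (χ : G → ℂ) x = 0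
        · rw [h0]; simp
        · have h5 := hd χ (hne χ hχ) h0
          have h6 : (0 : ℝ) < dg χ := lt_of_lt_of_le hd0 h5
          rw [← mul_div_assoc, div_le_iff₀ h6, mul_comm d]
          exact mul_le_mul_of_nonneg_left h5 (by positivity)
  have h4 := Finset.sum_mul_sq_le_sq_mul_sq (Finset.univ.erase e) (fun χ : IrrCharacter G => ‖(χ : G → ℂ) x‖ ^ 2)
    (fun χ => ‖(χ : G → ℂ) g‖)
  have h5 : ∑ χ ∈ Finset.univ.erase e, ‖(χ : G → ℂ) g‖ ^ 2 ≤ (Nat.card (centralizer ({g} : Set G)) : ℝ) := by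
    rw [← sum_normSq g]
    exact Finset.sum_le_sum_of_subset_of_nonneg (Finset.erase_subset _ _) fun _ _ _ => by positivity
  have h6 := hS (Finset.univ.erase e) hne
  have h7 : d ^ 2 ≤ S * (Nat.card (centralizer ({g} : Set G)) : ℝ) := by
    calc d ^ 2 ≤ (∑ χ ∈ Finset.univ.erase e, ‖(χ : G → ℂ) x‖ ^ 2 * ‖(χ : G → ℂ) g‖) ^ 2 :=
        pow_le_pow_left₀ hd0.le h3 2
      _ ≤ _ := h4
      _ ≤ S * (Nat.card (centralizer ({g} : Set G)) : ℝ) := by
        refine mul_le_mul h6 h5 (Finset.sum_nonneg fun _ _ => by positivity) ?_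
        exact le_trans (Finset.sum_nonneg fun _ _ => by positivity) h6
  linarith

/-- the counting lemma, commutator form -/
theorem exists_comm_of_sum [Finite G] [Fintype (IrrCharacter G)] {x g : G} {S d : ℝ} (hd0 : 0 < d)
    (hd : ∀ χ : IrrCharacter G, (χ : G → ℂ) ≠ 1 → (χ : G → ℂ) x ≠ 0 → d ≤ dg χ)
    (hS : ∀ A : Finset (IrrCharacter G), (∀ χ ∈ A, (χ : G → ℂ) ≠ 1) → ∑ χ ∈ A, (‖(χ : G → ℂ) x‖ ^ 2) ^ 2 ≤ S)
    (hlt : (Nat.card (centralizer ({g} : Set G)) : ℝ) * S < d ^ 2) : ∃ a b : G, g = a * b * a⁻¹ * b⁻¹ :=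
  comm_of_mul (exists_mul_of_sum hd0 hd hS hlt)

/-- **The counting lemma** with Brauer's data of a self-centralizing Sylow subgroup of order `p`. -/
theorem exists_mul [Finite G] {p e t : ℕ} {P : Sylow p G} (D : SC p e t P) (hp : 2 ≤ p) (he : 0 < e) (hep : e < p)
    {x : G} (hx : x ∈ P) (hx1 : x ≠ 1) (hC : Nat.card (centralizer ({x} : Set G)) = p) {g : G} {d : ℕ}
    (hd : ∀ χ : IrrCharacter G, (χ : G → ℂ) ≠ 1 → dg χ % p ≠ 0 → d ≤ dg χ) (hd0 : 0 < d)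
    (hlt : Nat.card (centralizer ({g} : Set G)) * (e - 1 + (p - e) ^ 2) < d ^ 2) :
    ∃ a b : G, g = a * x * a⁻¹ * (b * x⁻¹ * b⁻¹) := by
  classical
  have := finite_irr (G := G)
  let _ := Fintype.ofFinite (IrrCharacter G)
  refine exists_mul_of_sum (x := x) (S := ((e - 1 + (p - e) ^ 2 : ℕ) : ℝ)) (d := d) (by exact_mod_cast hd0) ?_ ?_
    (by exact_mod_cast hlt)
  · intro χ h1 h2
    have h3 : χ ∈ D.NE ∨ χ ∈ D.X := by
      by_contra h
      exact h2 (D.out χ (fun h' => h (Or.inl h')) (fun h' => h (Or.inr h')) x hx hx1)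
    refine Nat.cast_le.2 (hd χ h1 ?_)
    rcases h3 with h3 | h3
    · rcases H417.BlockCount.mod_NE' D hp h3 with h4 | h4 <;> omega
    · rcases H417.BlockCount.mod_X' D he hep h3 with h4 | h4 <;> omega
  · intro A hA
    have hNE : ∀ χ ∈ D.NE, ‖(χ : G → ℂ) x‖ ^ 2 = 1 := by
      intro χ hχ
      rw [D.val χ hχ x hx hx1]
      rcases D.ε_mem χ hχ with h | h <;> rw [h] <;> simp
    have hall := sum_normSq x
    rw [hC] at hall
    have hsub : ∑ χ ∈ D.NE ∪ D.X, ‖(χ : G → ℂ) x‖ ^ 2 ≤ (p : ℝ) := by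
      rw [← hall]
      exact Finset.sum_le_sum_of_subset_of_nonneg (Finset.subset_univ _) fun _ _ _ => by positivity
    rw [Finset.sum_union D.disj, Finset.sum_congr rfl hNE, Finset.sum_const, D.card_NE, nsmul_eq_mul, mul_one] at hsub
    have hX : ∑ χ ∈ D.X, ‖(χ : G → ℂ) x‖ ^ 2 ≤ (p : ℝ) - e := by linarith
    have hX2 : ∑ χ ∈ D.X, (‖(χ : G → ℂ) x‖ ^ 2) ^ 2 ≤ ((p : ℝ) - e) ^ 2 := by
      have h1 : ∀ χ ∈ D.X, ‖(χ : G → ℂ) x‖ ^ 2 ≤ (p : ℝ) - e := fun χ hχ =>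
        le_trans (Finset.single_le_sum (f := fun χ : IrrCharacter G => ‖(χ : G → ℂ) x‖ ^ 2)
          (fun _ _ => by positivity) hχ) hX
      calc ∑ χ ∈ D.X, (‖(χ : G → ℂ) x‖ ^ 2) ^ 2 ≤ ∑ χ ∈ D.X, ((p : ℝ) - e) * ‖(χ : G → ℂ) x‖ ^ 2 := by
            refine Finset.sum_le_sum fun χ hχ => ?_
            rw [sq (‖(χ : G → ℂ) x‖ ^ 2)]
            exact mul_le_mul_of_nonneg_right (h1 χ hχ) (by positivity)
        _ = ((p : ℝ) - e) * ∑ χ ∈ D.X, ‖(χ : G → ℂ) x‖ ^ 2 := (Finset.mul_sum _ _ _).symm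
        _ ≤ ((p : ℝ) - e) * ((p : ℝ) - e) := mul_le_mul_of_nonneg_left hX (by
            have : (e : ℝ) < p := by exact_mod_cast hep
            linarith)
        _ = _ := (sq _).symm
    have hA' : ∑ χ ∈ A, (‖(χ : G → ℂ) x‖ ^ 2) ^ 2 ≤
        ∑ χ ∈ (D.NE.erase D.one) ∪ D.X, (‖(χ : G → ℂ) x‖ ^ 2) ^ 2 := by
      have h1 : ∑ χ ∈ A, (‖(χ : G → ℂ) x‖ ^ 2) ^ 2 = ∑ χ ∈ A.filter (fun χ => χ ∈ D.NE ∪ D.X), (‖(χ : G → ℂ) x‖ ^ 2) ^ 2 := by
        refine (Finset.sum_subset (Finset.filter_subset _ _) fun χ hχ h2 => ?_).symm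
        have h3 : χ ∉ D.NE ∪ D.X := fun h3 => h2 (Finset.mem_filter.2 ⟨hχ, h3⟩)
        rw [Finset.mem_union, not_or] at h3
        rw [D.out χ h3.1 h3.2 x hx hx1]
        simp
      rw [h1]
      refine Finset.sum_le_sum_of_subset_of_nonneg ?_ fun _ _ _ => by positivity
      intro χ hχ
      rw [Finset.mem_filter, Finset.mem_union] at hχ
      rw [Finset.mem_union, Finset.mem_erase]
      rcases hχ.2 with h | h
      · left
        refine ⟨?_, h⟩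
        rintro rfl
        exact hA _ hχ.1 D.coe_one
      · exact Or.inr h
    have hdis : Disjoint (D.NE.erase D.one) D.X := Finset.disjoint_of_subset_left (Finset.erase_subset _ _) D.disj
    rw [Finset.sum_union hdis, Finset.sum_congr (rfl : D.NE.erase D.one = D.NE.erase D.one)
      (fun χ hχ => by rw [hNE χ (Finset.mem_of_mem_erase hχ)]), Finset.sum_const,
      Finset.card_erase_of_mem D.one_mem, D.card_NE, nsmul_eq_mul] at hA'
    push_cast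
    rw [Nat.cast_sub (show 1 ≤ e from he), Nat.cast_sub hep.le]
    rw [Nat.cast_sub (show 1 ≤ e from he)] at hA'
    push_cast at hA' ⊢
    linarith

/-- the counting lemma, commutator form -/
theorem exists_comm [Finite G] {p e t : ℕ} {P : Sylow p G} (D : SC p e t P) (hp : 2 ≤ p) (he : 0 < e) (hep : e < p)
    {x : G} (hx : x ∈ P) (hx1 : x ≠ 1) (hC : Nat.card (centralizer ({x} : Set G)) = p) {g : G} {d : ℕ}
    (hd : ∀ χ : IrrCharacter G, (χ : G → ℂ) ≠ 1 → dg χ % p ≠ 0 → d ≤ dg χ) (hd0 : 0 < d)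
    (hlt : Nat.card (centralizer ({g} : Set G)) * (e - 1 + (p - e) ^ 2) < d ^ 2) :
    ∃ a b : G, g = a * b * a⁻¹ * b⁻¹ :=
  comm_of_mul (exists_mul D hp he hep hx hx1 hC hd hd0 hlt)

end Cfsg.Agent.H455.Ore
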